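import Mathlib
import Groth.Agent.GenFlat.Limit
import Groth.Agent.FlatMorLib.Approx

/-!
# Flat finitely presented modules descend to finitely generated ℤ-algebras (EGA IV 11.2.7)
-/

set_option autoImplicit false

universe u

open TensorProduct

namespace Groth.Agent.ModModel

theorem flat_prod {R : Type u} [CommRing R] (P Q : Type u) [AddCommGroup P] [AddCommGroup Q]
    [Module R P] [Module R Q] [Module.Flat R P] [Module.Flat R Q] : Module.Flat R (P × Q) := by
  rw [Module.Flat.iff_lTensor_preserves_injective_linearMap]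
  intro N N' _ _ _ _ f hf
  rw [injective_iff_map_eq_zero]
  intro z hz
  have h1 : LinearMap.rTensor N (LinearMap.fst R P Q) z = 0 := by
    refine Module.Flat.lTensor_preserves_injective_linearMap (M := P) f hf ?_
    rw [map_zero, ← LinearMap.comp_apply, LinearMap.lTensor_comp_rTensor,
      ← LinearMap.rTensor_comp_lTensor, LinearMap.comp_apply, hz, map_zero]
  have h2 : LinearMap.rTensor N (LinearMap.snd R P Q) z = 0 := by
    refine Module.Flat.lTensor_preserves_injective_linearMap (M := Q) f hf ?_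
    rw [map_zero, ← LinearMap.comp_apply, LinearMap.lTensor_comp_rTensor,
      ← LinearMap.rTensor_comp_lTensor, LinearMap.comp_apply, hz, map_zero]
  have : LinearMap.rTensor N (LinearMap.inl R P Q ∘ₗ LinearMap.fst R P Q +
      LinearMap.inr R P Q ∘ₗ LinearMap.snd R P Q) z = z := by
    rw [show LinearMap.inl R P Q ∘ₗ LinearMap.fst R P Q +
      LinearMap.inr R P Q ∘ₗ LinearMap.snd R P Q = LinearMap.id by ext <;> simp]
    simp
  rw [← this, LinearMap.rTensor_add, LinearMap.add_apply, LinearMap.rTensor_comp,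
    LinearMap.rTensor_comp, LinearMap.comp_apply, LinearMap.comp_apply, h1, h2, map_zero, map_zero,
    add_zero]

section Descent

variable {A R : Type u} [CommRing A] [IsNoetherianRing A] [CommRing R] [Algebra A R]

/-- If the base change to `R` of a finite module over a finite type `A`-algebra is flat, so is the
base change to every big enough finitely generated subalgebra. -/
theorem exists_flat_subalgebra_module (S₁ : Type u) [CommRing S₁] [Algebra A S₁]
    [Algebra.FiniteType A S₁] (M : Type u) [AddCommGroup M] [Module S₁ M] [Module A M]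
    [IsScalarTower A S₁ M] [Module.Finite S₁ M] [Module.Flat R (R ⊗[A] M)] :
    ∃ s : Finset R, ∀ A' : Subalgebra A R, ↑s ⊆ (A' : Set R) → Algebra.FiniteType A A' →
      Module.Flat A' (A' ⊗[A] M) := by
  classical
  obtain ⟨n, π, hπ⟩ := Algebra.FiniteType.iff_quotient_mvPolynomial''.mp
    (inferInstance : Algebra.FiniteType A S₁)
  let P := MvPolynomial (Fin n) A
  let _ : Algebra P S₁ := π.toRingHom.toAlgebra
  have : IsScalarTower A P S₁ := IsScalarTower.of_algebraMap_eq fun a => (π.commutes a).symm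
  let _ : Module P M := Module.compHom M π.toRingHom
  have : IsScalarTower P S₁ M := IsScalarTower.of_algebraMap_smul fun _ _ => rfl
  have : IsScalarTower A P M := IsScalarTower.of_algebraMap_smul fun a m => by
    change π (algebraMap A P a) • m = a • m
    rw [π.commutes, IsScalarTower.algebraMap_smul]
  have hfin : Module.Finite P S₁ :=
    Module.Finite.of_surjective (Algebra.linearMap P S₁) hπ
  have : Module.Finite P M := Module.Finite.trans S₁ M
  let _ : Module Pᵐᵒᵖ M := Module.compHom M ((RingHom.id P).fromOpposite mul_comm)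
  have : IsCentralScalar P M := ⟨fun _ _ => rfl⟩
  have : IsScalarTower A Pᵐᵒᵖ M := ⟨fun a p m => by
    change (MulOpposite.unop (a • p)) • m = a • (MulOpposite.unop p • m)
    rw [MulOpposite.unop_smul, smul_assoc]⟩
  let C := TrivSqZeroExt P M
  let eC : C ≃ₗ[A] P × M :=
    { toFun := fun x => (x.fst, x.snd)
      invFun := fun x => x
      map_add' := fun _ _ => rfl
      map_smul' := fun _ _ => rfl
      left_inv := fun _ => rfl
      right_inv := fun _ => rfl }
  let eP : C ≃ₗ[P] P × M :=
    { toFun := fun x => (x.fst, x.snd)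
      invFun := fun x => x
      map_add' := fun _ _ => rfl
      map_smul' := fun _ _ => rfl
      left_inv := fun _ => rfl
      right_inv := fun _ => rfl }
  have : Module.Finite P C := Module.Finite.equiv eP.symm
  have : IsScalarTower A P C := IsScalarTower.of_algebraMap_eq fun a => rfl
  have : Algebra.FiniteType A C :=
    Algebra.FiniteType.trans (S := P) inferInstance inferInstance
  have : Module.Flat R ((R ⊗[A] P) × (R ⊗[A] M)) := flat_prod _ _
  have : Module.Flat R (R ⊗[A] C) := Module.Flat.of_linearEquiv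
    (eC.baseChange A R C (P × M) ≪≫ₗ TensorProduct.prodRight A R R P M)
  obtain ⟨s, hs⟩ := GenFlat.exists_flat_subalgebra (R := A) (C := C) (B := R)
  refine ⟨s, fun A' hA' hft => ?_⟩
  have := hs A' hA' hft
  refine Module.Flat.of_retract (M := A' ⊗[A] C)
    ((eC.symm.toLinearMap ∘ₗ LinearMap.inr A P M).baseChange A')
    ((LinearMap.snd A P M ∘ₗ eC.toLinearMap).baseChange A') ?_
  refine LinearMap.ext fun x => ?_
  induction x using TensorProduct.induction_on with
  | zero => simp
  | tmul a m => rfl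
  | add x y hx hy => simp only [map_add, hx, hy]

end Descent

section Model

variable {R S : Type u} [CommRing R] [CommRing S] [Algebra R S]
  {M : Type u} [AddCommGroup M] [Module S M] [Module R M] [IsScalarTower R S M]

/-- The descent, starting from some model over a finite type ℤ-algebra `A`. -/
theorem exists_of_model (A : Type u) [CommRing A] [Algebra.FiniteType ℤ A] [Algebra A R] [Algebra A S]
    [IsScalarTower A R S] (S₁ : Type u) [CommRing S₁] [Algebra A S₁] [Algebra.FiniteType A S₁]
    [Algebra S₁ S] [IsScalarTower A S₁ S] [Algebra.IsPushout A R S₁ S]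
    (M₁ : Type u) [AddCommGroup M₁] [Module S₁ M₁] [Module.Finite S₁ M₁]
    [Module S₁ M] [IsScalarTower S₁ S M] (f₁ : M₁ →ₗ[S₁] M) (hf₁ : IsBaseChange S f₁)
    [Module.Flat R M] :
    ∃ (R₀ : Type u) (_ : CommRing R₀) (_ : Algebra R₀ R) (S₀ : Type u) (_ : CommRing S₀)
      (_ : Algebra R₀ S₀) (_ : Algebra S₀ S) (_ : Algebra R₀ S) (_ : IsScalarTower R₀ R S)
      (_ : IsScalarTower R₀ S₀ S) (M₀ : Type u) (_ : AddCommGroup M₀) (_ : Module S₀ M₀)
      (_ : Module R₀ M₀) (_ : IsScalarTower R₀ S₀ M₀) (_ : Module S₀ M) (_ : IsScalarTower S₀ S M)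
      (f : M₀ →ₗ[S₀] M),
      Algebra.FiniteType ℤ R₀ ∧ Algebra.FiniteType R₀ S₀ ∧ Module.Finite S₀ M₀ ∧ Module.Flat R₀ M₀ ∧
        Algebra.IsPushout R₀ R S₀ S ∧ IsBaseChange S f := by
  classical
  have : IsNoetherianRing A := Algebra.FiniteType.isNoetherianRing ℤ A
  let _ : Module A M₁ := Module.compHom M₁ (algebraMap A S₁)
  have : IsScalarTower A S₁ M₁ := IsScalarTower.of_algebraMap_smul fun _ _ => rfl
  have : Module.Flat R (R ⊗[A] M₁) := Module.Flat.of_linearEquiv
    ((Algebra.IsPushout.cancelBaseChange A R S₁ S M₁).symm ≪≫ₗ hf₁.equiv.restrictScalars R)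
  obtain ⟨s, hs⟩ := exists_flat_subalgebra_module (A := A) (R := R) S₁ M₁
  let A' : Subalgebra A R := Algebra.adjoin A (s : Set R)
  have hft : Algebra.FiniteType A A' := Algebra.FiniteType.adjoin_of_finite s.finite_toSet
  have hflat := hs A' Algebra.subset_adjoin hft
  let S₀ := A' ⊗[A] S₁
  let ψ : S₀ →ₐ[A] S := Algebra.TensorProduct.lift
    ((IsScalarTower.toAlgHom A R S).comp A'.val) (IsScalarTower.toAlgHom A S₁ S)
    fun _ _ => Commute.all _ _
  let _ : Algebra S₀ S := ψ.toRingHom.toAlgebra
  have : IsScalarTower A A' S :=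
    IsScalarTower.of_algebraMap_eq fun a => IsScalarTower.algebraMap_apply A R S a
  have : IsScalarTower A' S₀ S := IsScalarTower.of_algebraMap_eq (R := A') (S := S₀) (A := S) fun a => by
    change algebraMap R S (a : R) = ψ (a ⊗ₜ 1)
    refine Eq.trans ?_ (Algebra.TensorProduct.lift_tmul _ _ _ a 1).symm
    rw [map_one, mul_one]
    rfl
  let _ : Algebra S₁ S₀ := Algebra.TensorProduct.rightAlgebra
  have : IsScalarTower S₁ S₀ S := IsScalarTower.of_algebraMap_eq (R := S₁) (S := S₀) (A := S) fun x => by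
    change algebraMap S₁ S x = ψ (1 ⊗ₜ x)
    refine Eq.trans ?_ (Algebra.TensorProduct.lift_tmul _ _ _ 1 x).symm
    rw [map_one, one_mul]
    rfl
  have : IsScalarTower A S₁ S₀ := IsScalarTower.of_algebraMap_eq fun a => by
    change algebraMap A S₀ a = (1 : A') ⊗ₜ[A] algebraMap A S₁ a
    exact (Algebra.TensorProduct.includeRight (R := A) (A := A') (B := S₁)).commutes a |>.symm
  have : IsScalarTower A S₀ S := IsScalarTower.of_algebraMap_eq fun a => (ψ.commutes a).symm
  have : SMulCommClass S₁ A' S₀ := ⟨fun x a z => by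
    rw [Algebra.smul_def, Algebra.smul_def]
    exact mul_smul_comm a (algebraMap S₁ S₀ x) z⟩
  have hpo : Algebra.IsPushout A' R S₀ S := (Algebra.IsPushout.comp_iff A A' S₁ S₀).mp
    (inferInstance : Algebra.IsPushout A R S₁ S)
  let _ : Module S₀ M := Module.compHom M ψ.toRingHom
  have : IsScalarTower S₀ S M := IsScalarTower.of_algebraMap_smul fun _ _ => rfl
  have : IsScalarTower S₁ S₀ M := IsScalarTower.of_algebraMap_smul fun x m => by
    change ψ (1 ⊗ₜ x) • m = x • m
    rw [show ψ (1 ⊗ₜ x) = algebraMap S₁ S x from (IsScalarTower.algebraMap_apply S₁ S₀ S x).symm,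
      IsScalarTower.algebraMap_smul]
  have : Algebra.IsPushout A A' S₁ S₀ := inferInstance
  have : Module.Flat A' (S₀ ⊗[S₁] M₁) :=
    Module.Flat.of_linearEquiv (Algebra.IsPushout.cancelBaseChange A A' S₁ S₀ M₁)
  refine ⟨A', inferInstance, inferInstance, S₀, inferInstance, inferInstance, inferInstance,
    inferInstance, inferInstance, inferInstance, S₀ ⊗[S₁] M₁, inferInstance, inferInstance,
    inferInstance, inferInstance, inferInstance, inferInstance, f₁.liftBaseChange S₀,
    Algebra.FiniteType.trans (S := A) inferInstance hft, inferInstance, inferInstance,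
    inferInstance, hpo, ?_⟩
  refine IsBaseChange.of_comp (TensorProduct.isBaseChange S₁ M₁ S₀) ?_
  convert hf₁
  ext m
  simp

omit [Algebra R S] [Module R M] [IsScalarTower R S M] in
/-- A presentation with entries coming from `S₁` gives a model over `S₁`. -/
theorem exists_module_model (S₁ : Type u) [CommRing S₁] [Algebra S₁ S] [Module S₁ M]
    [IsScalarTower S₁ S M] {a : ℕ} {K : Submodule S (Fin a → S)} (e : M ≃ₗ[S] (Fin a → S) ⧸ K)
    (ks : Finset (Fin a → S)) (hks : Submodule.span S (ks : Set (Fin a → S)) = K)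
    (hrange : ∀ k ∈ ks, ∀ i, ∃ y : S₁, algebraMap S₁ S y = k i) :
    ∃ (M₁ : Type u) (_ : AddCommGroup M₁) (_ : Module S₁ M₁) (f₁ : M₁ →ₗ[S₁] M),
      Module.Finite S₁ M₁ ∧ IsBaseChange S f₁ := by
  classical
  choose l hl using hrange
  let K₁ : Submodule S₁ (Fin a → S₁) := Submodule.span S₁ (Set.range fun k : ks => l k.1 k.2)
  let g : (Fin a → S₁) →ₗ[S₁] M := (e.symm.toLinearMap ∘ₗ K.mkQ).restrictScalars S₁ ∘ₗ
    (Algebra.linearMap S₁ S).compLeft (Fin a)
  have hg : K₁ ≤ LinearMap.ker g := Submodule.span_le.2 (by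
    rintro _ ⟨k, rfl⟩
    have : (Algebra.linearMap S₁ S).compLeft (Fin a) (l k.1 k.2) = k.1 := funext fun i => hl _ _ i
    change e.symm (K.mkQ ((Algebra.linearMap S₁ S).compLeft (Fin a) (l k.1 k.2))) = 0
    rw [this, Submodule.mkQ_apply,
      (Submodule.Quotient.mk_eq_zero K).2 (hks ▸ Submodule.subset_span k.2), map_zero])
  let f₁ : ((Fin a → S₁) ⧸ K₁) →ₗ[S₁] M := K₁.liftQ g hg
  let u : (Fin a → S) →ₗ[S] S ⊗[S₁] ((Fin a → S₁) ⧸ K₁) :=
    Fintype.linearCombination S fun i => (1 : S) ⊗ₜ K₁.mkQ (Pi.single i 1)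
  have hu : ∀ v : Fin a → S₁, u (fun i => algebraMap S₁ S (v i)) = 1 ⊗ₜ K₁.mkQ v := fun v => by
    conv_rhs => rw [pi_eq_sum_univ' v, map_sum, TensorProduct.tmul_sum]
    simp only [u, Fintype.linearCombination_apply, map_smul, TensorProduct.tmul_smul,
      algebraMap_smul]
  have huK : K ≤ LinearMap.ker u := by
    rw [← hks, Submodule.span_le]
    intro k hk
    have h1 : (fun i => algebraMap S₁ S (l k hk i)) = k := funext fun i => hl k hk i
    rw [SetLike.mem_coe, LinearMap.mem_ker, ← h1, hu, Submodule.mkQ_apply,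
      (Submodule.Quotient.mk_eq_zero K₁).2 (Submodule.subset_span (Set.mem_range_self
        (⟨k, hk⟩ : ks))), TensorProduct.tmul_zero]
  have hf₁ : IsBaseChange S f₁ := by
    refine IsBaseChange.of_equiv (LinearEquiv.ofLinearMap (f₁.liftBaseChange S)
      (K.liftQ u huK ∘ₗ e.toLinearMap) ?_ ?_) fun x => (f₁.liftBaseChange_tmul S 1 x).trans (one_smul _ _)
    · have h : (f₁.liftBaseChange S) ∘ₗ u = e.symm.toLinearMap ∘ₗ K.mkQ := by
        refine LinearMap.pi_ext' fun i => LinearMap.ext_ring ?_
        simp [u, f₁, g, LinearMap.compLeft, Function.comp_def, Pi.single_apply, apply_ite]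
        exact congrArg _ (funext fun x => (Pi.single_apply i (1 : S) x).symm)
      ext m
      obtain ⟨v, hv⟩ := K.mkQ_surjective (e m)
      simp only [LinearMap.comp_apply, LinearEquiv.coe_coe, LinearMap.id_apply]
      rw [← hv, Submodule.mkQ_apply, Submodule.liftQ_apply, ← LinearMap.comp_apply, h,
        LinearMap.comp_apply, LinearEquiv.coe_coe, hv, e.symm_apply_apply]
    · refine TensorProduct.AlgebraTensorModule.curry_injective ?_
      refine LinearMap.ext_ring ?_
      refine LinearMap.ext fun v => ?_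
      obtain ⟨v, rfl⟩ := K₁.mkQ_surjective v
      simp only [TensorProduct.AlgebraTensorModule.curry_apply, LinearMap.restrictScalars_apply,
        TensorProduct.curry_apply, LinearMap.comp_apply, LinearMap.id_apply,
        LinearMap.liftBaseChange_tmul, one_smul]
      change K.liftQ u huK (e (e.symm (K.mkQ _))) = _
      rw [e.apply_symm_apply, Submodule.mkQ_apply, Submodule.liftQ_apply]
      exact hu v
  exact ⟨_, inferInstance, inferInstance, f₁, inferInstance, hf₁⟩

/-- The descent of a flat finitely presented module. -/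
theorem exists_model [Algebra.FinitePresentation R S] [Module.FinitePresentation S M]
    [Module.Flat R M] :
    ∃ (R₀ : Type u) (_ : CommRing R₀) (_ : Algebra R₀ R) (S₀ : Type u) (_ : CommRing S₀)
      (_ : Algebra R₀ S₀) (_ : Algebra S₀ S) (_ : Algebra R₀ S) (_ : IsScalarTower R₀ R S)
      (_ : IsScalarTower R₀ S₀ S) (M₀ : Type u) (_ : AddCommGroup M₀) (_ : Module S₀ M₀)
      (_ : Module R₀ M₀) (_ : IsScalarTower R₀ S₀ M₀) (_ : Module S₀ M) (_ : IsScalarTower S₀ S M)
      (f : M₀ →ₗ[S₀] M),
      Algebra.FiniteType ℤ R₀ ∧ Algebra.FiniteType R₀ S₀ ∧ Module.Finite S₀ M₀ ∧ Module.Flat R₀ M₀ ∧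
        Algebra.IsPushout R₀ R S₀ S ∧ IsBaseChange S f := by
  classical
  let P := Algebra.Presentation.ofFinitePresentation R S
  let A₀ : Subalgebra ℤ R := Algebra.adjoin ℤ P.coeffs
  have : P.HasCoeffs A₀ := ⟨by simp [A₀, Subalgebra.algebraMap_eq]⟩
  have : Algebra.FiniteType ℤ A₀ := Algebra.FiniteType.adjoin_of_finite P.finite_coeffs
  let S' := P.ModelOfHasCoeffs A₀
  let e₀ : R ⊗[A₀] S' ≃ₐ[R] S := P.tensorModelOfHasCoeffsEquiv A₀
  obtain ⟨a, K, e, ⟨ks, hks⟩⟩ := Module.FinitePresentation.exists_fin S M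
  obtain ⟨A, hA, hmem⟩ := FlatMorLib.Approx.exists_fg_finset_subset (R := A₀) (A := R) (D := S')
    (ks.biUnion fun k => Finset.univ.image fun i => e₀.symm (k i))
  have : Algebra.FiniteType A₀ A := A.fg_iff_finiteType.mp hA
  have : Algebra.FiniteType ℤ A := Algebra.FiniteType.trans (S := A₀) inferInstance this
  let S₁ := A ⊗[A₀] S'
  let φ : S₁ →+* S := e₀.toRingEquiv.toRingHom.comp (FlatMorLib.Approx.valT S' A).toRingHom
  let _ : Algebra S₁ S := φ.toAlgebra
  have : IsScalarTower A S₁ S := IsScalarTower.of_algebraMap_eq (R := A) (S := S₁) (A := S) fun x => by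
    change algebraMap R S (x : R) = e₀ (FlatMorLib.Approx.valT S' A (x ⊗ₜ 1))
    rw [← e₀.commutes, Algebra.TensorProduct.map_tmul, Algebra.TensorProduct.algebraMap_apply]
    simp
  let _ : Algebra S' S :=
    (e₀.toRingEquiv.toRingHom.comp Algebra.TensorProduct.includeRight.toRingHom).toAlgebra
  have : IsScalarTower A₀ A S :=
    IsScalarTower.of_algebraMap_eq (R := A₀) (S := A) fun x => rfl
  have : IsScalarTower A₀ S' S := IsScalarTower.of_algebraMap_eq (R := A₀) (S := S') (A := S) fun x => by
    change algebraMap R S (x : R) = e₀ (1 ⊗ₜ algebraMap A₀ S' x)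
    rw [← e₀.commutes]
    congr 1
    exact ((Algebra.TensorProduct.includeRight (R := A₀) (A := R) (B := S')).commutes x).symm
  let _ : Algebra S' S₁ := Algebra.TensorProduct.rightAlgebra
  have : IsScalarTower S' S₁ S := IsScalarTower.of_algebraMap_eq (R := S') (S := S₁) (A := S) fun x => by
    change e₀ (1 ⊗ₜ x) = e₀ (FlatMorLib.Approx.valT S' A (1 ⊗ₜ x))
    simp
  have : IsScalarTower A₀ S₁ S := IsScalarTower.of_algebraMap_eq (R := A₀) (S := S₁) (A := S) fun x => by
    rw [IsScalarTower.algebraMap_apply A₀ A S₁, ← IsScalarTower.algebraMap_apply A S₁ S,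
      ← IsScalarTower.algebraMap_apply A₀ A S]
  have hR : Algebra.IsPushout A₀ R S' S :=
    let _ : Algebra S' (R ⊗[A₀] S') := Algebra.TensorProduct.rightAlgebra
    Algebra.IsPushout.of_equiv (h := TensorProduct.isPushout (R := A₀) (S := R) (T := S')) e₀ rfl
  have hpo : Algebra.IsPushout A R S₁ S := (Algebra.IsPushout.comp_iff A₀ A S' S₁).mp hR
  let _ : CommRing S₁ := inferInstance
  have hrange : ∀ k ∈ ks, ∀ i, ∃ y : S₁, algebraMap S₁ S y = k i := fun k hk i => by
    obtain ⟨y, hy⟩ := hmem (e₀.symm (k i))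
      (Finset.mem_biUnion.2 ⟨k, hk, Finset.mem_image.2 ⟨i, Finset.mem_univ _, rfl⟩⟩)
    refine ⟨y, ?_⟩
    rw [show algebraMap S₁ S y = φ y from rfl]
    change e₀ (FlatMorLib.Approx.valT S' A y) = k i
    rw [show FlatMorLib.Approx.valT S' A y = e₀.symm (k i) from hy, AlgEquiv.apply_symm_apply]
  let _ : Module S₁ M := Module.compHom M φ
  have : IsScalarTower S₁ S M := IsScalarTower.of_algebraMap_smul fun _ _ => rfl
  obtain ⟨M₁, _, _, f₁, _, hf₁⟩ := exists_module_model S₁ e ks hks hrange
  exact exists_of_model A S₁ M₁ f₁ hf₁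

end Model

end Groth.Agent.ModModel
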